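import Groth.Prelude.Def_CAlg
import Groth.Agent.S0335
import Groth.Agent.GrpFieldLib.TwSplit
import Mathlib.AlgebraicGeometry.Stalk

/-! Connected components are unchanged by removing a closed set of depth at least two. -/

universe u

open CategoryTheory AlgebraicGeometry TopologicalSpace Topology

namespace Groth.Agent.H1Hartshorne

theorem exists_specializes_of_mem_closure {X : Scheme.{u}} [IsLocallyNoetherian X] {S : Set X}
    (hS : IsOpen S) {y : X} (hy : y ∈ closure S) : ∃ z ∈ S, z ⤳ y := by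
  obtain ⟨W, hW, hyW, -⟩ := exists_isAffineOpen_mem_and_subset (show y ∈ (⊤ : X.Opens) from trivial)
  haveI : IsNoetherianRing Γ(X, W) := IsLocallyNoetherian.component_noetherian ⟨W, hW⟩
  haveI : NoetherianSpace (W : Set X) := noetherianSpace_of_isAffineOpen W hW
  haveI : QuasiSober (W : Set X) := W.isOpen.isOpenEmbedding_subtypeVal.quasiSober
  let y' : (W : Set X) := ⟨y, hyW⟩
  let T : Set (Set (W : Set X)) := {Z | Z ∈ irreducibleComponents (W : Set X) ∧ y' ∉ Z}
  have hT : IsClosed (⋃₀ T) :=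
    Set.sUnion_eq_biUnion (s := T) ▸ Set.Finite.isClosed_biUnion
      (NoetherianSpace.finite_irreducibleComponents.subset fun Z hZ => hZ.1)
      fun Z hZ => isClosed_of_mem_irreducibleComponents _ hZ.1
  have hy' : y' ∈ closure ((↑) ⁻¹' S : Set (W : Set X)) := by
    rw [← W.isOpen.isOpenEmbedding_subtypeVal.isOpenMap.preimage_closure_eq_closure_preimage
      continuous_subtype_val S]
    exact hy
  obtain ⟨z, hz, hzS⟩ := mem_closure_iff.1 hy' _ hT.isOpen_compl
    (fun h => by obtain ⟨Z, hZ, hyZ⟩ := h; exact hZ.2 hyZ)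
  have hzc : z ∈ irreducibleComponent z := mem_irreducibleComponent
  have hyc : y' ∈ irreducibleComponent z := by
    by_contra h
    exact hz ⟨_, ⟨irreducibleComponent_mem_irreducibleComponents z, h⟩, hzc⟩
  have hirr := isIrreducible_irreducibleComponent (x := z)
  have hg := hirr.isGenericPoint_genericPoint isClosed_irreducibleComponent
  exact ⟨hirr.genericPoint.1,
    (hg.specializes hzc).mem_open (hS.preimage continuous_subtype_val) hzS,
    (hg.specializes hyc).map continuous_subtype_val⟩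

variable (X : Scheme.{u})

theorem punctured_connected [IsLocallyNoetherian X] (y : X)
    (h : (2 : ℕ∞) ≤ LocCoh.depth (X.presheaf.stalk y) (X.presheaf.stalk y)) :
    _root_.IsConnected {x : X | x ⤳ y ∧ x ≠ y} := by
  have hc := (Groth.Agent.S0335.result (X.presheaf.stalk y) h).image (X.fromSpecStalk y)
    (X.fromSpecStalk y).continuous.continuousOn
  convert hc using 1
  ext x
  constructor
  · rintro ⟨hxy, hne⟩
    have hx : x ∈ Set.range (X.fromSpecStalk y) := by rw [Scheme.range_fromSpecStalk]; exact hxy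
    obtain ⟨P, rfl⟩ := hx
    refine ⟨P, fun hP => hne ?_, rfl⟩
    rw [show P = IsLocalRing.closedPoint (X.presheaf.stalk y) from PrimeSpectrum.ext hP]
    exact Scheme.fromSpecStalk_closedPoint
  · rintro ⟨P, hP, rfl⟩
    refine ⟨?_, fun he => hP ?_⟩
    · have : (X.fromSpecStalk y) P ∈ Set.range (X.fromSpecStalk y) := ⟨P, rfl⟩
      rw [Scheme.range_fromSpecStalk] at this
      exact this
    · have := (X.fromSpecStalk y).isEmbedding.injective
        (he.trans Scheme.fromSpecStalk_closedPoint.symm)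
      exact congrArg PrimeSpectrum.asIdeal this

theorem exists_maximal_generization [IsLocallyNoetherian X] {Z : Set X} (hZ : IsClosed Z) {y : X}
    (hy : y ∈ Z) : ∃ y' ∈ Z, y' ⤳ y ∧ ∀ x ∈ Z, x ⤳ y' → x = y' := by
  let g := X.fromSpecStalk y
  obtain ⟨I, hI⟩ := (PrimeSpectrum.isClosed_iff_zeroLocus_ideal _).1 (hZ.preimage g.continuous)
  have hc : IsLocalRing.closedPoint (X.presheaf.stalk y) ∈ g ⁻¹' Z := by
    show g _ ∈ Z
    rw [Scheme.fromSpecStalk_closedPoint]; exact hy
  rw [hI] at hc
  obtain ⟨P, hP, -⟩ := Ideal.exists_minimalPrimes_le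
    (show I ≤ (IsLocalRing.closedPoint (X.presheaf.stalk y)).asIdeal from hc)
  let P' : PrimeSpectrum (X.presheaf.stalk y) := ⟨P, hP.1.1⟩
  have hP' : P' ∈ g ⁻¹' Z := hI ▸ (hP.1.2 : I ≤ P)
  have hr : ∀ Q, g Q ⤳ y := fun Q => by
    have : g Q ∈ Set.range g := ⟨Q, rfl⟩
    rw [Scheme.range_fromSpecStalk] at this
    exact this
  refine ⟨g P', hP', hr P', fun x hx hxy => ?_⟩
  obtain ⟨Q, rfl⟩ : x ∈ Set.range g := by
    rw [Scheme.range_fromSpecStalk]; exact hxy.trans (hr P')
  have hQP : Q ⤳ P' := g.isEmbedding.isInducing.specializes_iff.1 hxy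
  have hle : Q.asIdeal ≤ P := (PrimeSpectrum.le_iff_specializes Q P').2 hQP
  have hQ : Q ∈ g ⁻¹' Z := hx
  rw [hI] at hQ
  congr 1
  exact PrimeSpectrum.ext (le_antisymm hle (hP.2 ⟨Q.isPrime, hQ⟩ hle))

theorem exists_generization_mem [IsLocallyNoetherian X] (U : X.Opens)
    (h : ∀ x : X, x ∉ (U : Set X) → (2 : ℕ∞) ≤ LocCoh.depth (X.presheaf.stalk x) (X.presheaf.stalk x))
    (y : X) : ∃ z ∈ (U : Set X), z ⤳ y := by
  obtain ⟨η, -, hηy, hmax⟩ := exists_maximal_generization X isClosed_univ (Set.mem_univ y)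
  refine ⟨η, by_contra fun hη => ?_, hηy⟩
  obtain ⟨x, hxη, hne⟩ := (punctured_connected X η (h η hη)).nonempty
  exact hne (hmax x trivial hxη)

theorem disjoint_closure [IsLocallyNoetherian X] (U : X.Opens)
    (h : ∀ x : X, x ∉ (U : Set X) → (2 : ℕ∞) ≤ LocCoh.depth (X.presheaf.stalk x) (X.presheaf.stalk x))
    {V₁ V₂ : Set X} (h₁ : IsOpen V₁) (h₂ : IsOpen V₂) (hd : V₁ ∩ V₂ = ∅) (hu : V₁ ∪ V₂ = U) :
    closure V₁ ∩ closure V₂ = ∅ := by
  by_contra hne
  obtain ⟨y₀, hy₀⟩ := Set.nonempty_iff_ne_empty.2 hne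
  obtain ⟨y, hy, -, hmax⟩ := exists_maximal_generization X (isClosed_closure.inter isClosed_closure) hy₀
  have hyU : y ∉ (U : Set X) := by
    rw [← hu]
    rintro (hy' | hy')
    · obtain ⟨x, hx₁, hx₂⟩ := mem_closure_iff.1 hy.2 V₁ h₁ hy'
      exact (Set.eq_empty_iff_forall_notMem.1 hd) x ⟨hx₁, hx₂⟩
    · obtain ⟨x, hx₂, hx₁⟩ := mem_closure_iff.1 hy.1 V₂ h₂ hy'
      exact (Set.eq_empty_iff_forall_notMem.1 hd) x ⟨hx₁, hx₂⟩
  have hc := punctured_connected X y (h y hyU)
  have hsub : {x : X | x ⤳ y ∧ x ≠ y} ⊆ closure V₁ ∪ closure V₂ := fun x _ => by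
    rw [← closure_union, hu]
    obtain ⟨z, hz, hzx⟩ := exists_generization_mem X U h x
    exact hzx.mem_closed isClosed_closure (subset_closure hz)
  have hnon : ∀ V : Set X, IsOpen V → V ⊆ (U : Set X) → y ∈ closure V →
      ({x : X | x ⤳ y ∧ x ≠ y} ∩ closure V).Nonempty := by
    intro V hV hVU hyV
    obtain ⟨z, hz, hzy⟩ := exists_specializes_of_mem_closure hV hyV
    exact ⟨z, ⟨hzy, fun e => hyU (e ▸ hVU hz)⟩, subset_closure hz⟩
  obtain ⟨x, hx, hx12⟩ := (isPreconnected_closed_iff.1 hc.isPreconnected) _ _ isClosed_closure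
    isClosed_closure hsub (hnon V₁ h₁ (hu ▸ Set.subset_union_left) hy.1)
    (hnon V₂ h₂ (hu ▸ Set.subset_union_right) hy.2)
  exact hx.2 (hmax x hx12 hx.1)

theorem main [IsLocallyNoetherian X] (U : X.Opens)
    (h : ∀ x : X, x ∉ (U : Set X) → (2 : ℕ∞) ≤ LocCoh.depth (X.presheaf.stalk x) (X.presheaf.stalk x)) :
    Function.Bijective (Continuous.connectedComponentsMap
      (continuous_subtype_val : Continuous (fun x : U => (x : X)))) := by
  haveI : LocallyConnectedSpace X := Groth.Agent.GrpFieldLib.TwSplit.locallyConnectedSpace_of_isLocallyNoetherian X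
  haveI : LocallyConnectedSpace (U : Set X) := U.isOpen.locallyConnectedSpace
  constructor
  · intro a b hab
    obtain ⟨a, rfl⟩ := ConnectedComponents.surjective_coe a
    obtain ⟨b, rfl⟩ := ConnectedComponents.surjective_coe b
    by_contra hne
    have hne' : (a : (U : Set X)) ∉ connectedComponent (b : (U : Set X)) := fun hm =>
      hne (ConnectedComponents.coe_eq_coe'.2 hm)
    let C : Set (U : Set X) := connectedComponent b
    let V₁ : Set X := Subtype.val '' C
    let V₂ : Set X := Subtype.val '' Cᶜ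
    have h₁ : IsOpen V₁ := U.isOpen.isOpenMap_subtype_val _ isOpen_connectedComponent
    have h₂ : IsOpen V₂ := U.isOpen.isOpenMap_subtype_val _ isClosed_connectedComponent.isOpen_compl
    have hd : V₁ ∩ V₂ = ∅ := by
      rw [← Set.image_inter Subtype.val_injective, Set.inter_compl_self, Set.image_empty]
    have hu : V₁ ∪ V₂ = U := by
      rw [← Set.image_union, Set.union_compl_self, Set.image_univ]
      exact Subtype.range_coe
    have hdis := disjoint_closure X U h h₁ h₂ hd hu
    have huniv : closure V₁ ∪ closure V₂ = Set.univ := by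
      rw [← closure_union, hu]
      refine Set.eq_univ_of_forall fun x => ?_
      obtain ⟨z, hz, hzx⟩ := exists_generization_mem X U h x
      exact hzx.mem_closed isClosed_closure (subset_closure hz)
    have hclopen : IsClopen (closure V₁) := by
      refine ⟨isClosed_closure, ?_⟩
      have : closure V₁ = (closure V₂)ᶜ :=
        (Set.disjoint_iff_inter_eq_empty.2 hdis |> fun d => (IsCompl.of_eq (by
          simpa using hdis) (by simpa using huniv))).eq_compl
      rw [this]
      exact isClosed_closure.isOpen_compl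
    have hb : (b : X) ∈ closure V₁ := subset_closure ⟨b, mem_connectedComponent, rfl⟩
    have hsubset := hclopen.connectedComponent_subset hb
    have hab' : (a : X) ∈ connectedComponent (b : X) := by
      have := hab
      rw [Continuous.connectedComponentsMap] at this
      exact ConnectedComponents.coe_eq_coe'.1 this
    have ha2 : (a : X) ∈ closure V₂ := subset_closure ⟨a, hne', rfl⟩
    exact (Set.eq_empty_iff_forall_notMem.1 hdis) a ⟨hsubset hab', ha2⟩
  · intro c
    obtain ⟨x, rfl⟩ := ConnectedComponents.surjective_coe c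
    obtain ⟨z, hz, hzx⟩ := exists_generization_mem X U h x
    refine ⟨ConnectedComponents.mk ⟨z, hz⟩, ?_⟩
    refine ConnectedComponents.coe_eq_coe'.2 ?_
    exact hzx.mem_open isOpen_connectedComponent mem_connectedComponent

end Groth.Agent.H1Hartshorne
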